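import Mathlib.Topology.Spectral.Basic
import Mathlib.Topology.Connected.Clopen
import Mathlib.Topology.Connected.TotallyDisconnected
import Mathlib.Topology.Separation.Profinite

/-!
# Connected components of spectral spaces; products with profinite spaces
-/

set_option autoImplicit false
universe u v

open Set Topology TopologicalSpace

namespace SpecProdLib

variable {X : Type u} [TopologicalSpace X]

/-- In a compact quasi-separated prespectral space components are intersections of clopens. -/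
theorem mem_connectedComponent_of_forall_isClopen [CompactSpace X] [QuasiSeparatedSpace X]
    [PrespectralSpace X] {x y : X} (h : ∀ Z : Set X, IsClopen Z → x ∈ Z → y ∈ Z) :
    y ∈ connectedComponent x := by
  let S : Set X := ⋂ Z : {Z : Set X // IsClopen Z ∧ x ∈ Z}, (Z : Set X)
  have hSc : IsClosed S := isClosed_iInter fun Z => Z.2.1.1
  have hxS : x ∈ S := mem_iInter.2 fun Z => Z.2.2
  have hyS : y ∈ S := mem_iInter.2 fun Z => h Z Z.2.1 Z.2.2
  suffices IsPreconnected S from this.subset_connectedComponent hxS hyS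
  rw [isPreconnected_closed_iff]
  intro B C hB hC hSBC hBne hCne
  by_contra hempty
  rw [not_nonempty_iff_eq_empty] at hempty
  have hd : ∀ z, z ∈ S → z ∈ B → z ∉ C := fun z h1 h2 h3 =>
    (eq_empty_iff_forall_notMem.1 hempty z) ⟨h1, h2, h3⟩
  obtain ⟨U, hUc, hUo, hBU, hUC⟩ := PrespectralSpace.exists_isCompact_and_isOpen_between
    (hSc.inter hB).isCompact (hSc.inter hC).isOpen_compl (fun z hz h' => hd z hz.1 hz.2 h'.2)
  obtain ⟨V, hVc, hVo, hCV, hVU⟩ := PrespectralSpace.exists_isCompact_and_isOpen_between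
    (hSc.inter hC).isCompact (hSc.inter hB).isOpen_compl (fun z hz h' => hd z hz.1 h'.2 hz.2)
  haveI : Nonempty {Z : Set X // IsClopen Z ∧ x ∈ Z} := ⟨⟨univ, isClopen_univ, mem_univ x⟩⟩
  have hdir : Directed (fun a b => a ⊇ b) (fun Z : {Z : Set X // IsClopen Z ∧ x ∈ Z} => (Z : Set X)) :=
    fun a b => ⟨⟨a.1 ∩ b.1, a.2.1.inter b.2.1, a.2.2, b.2.2⟩, inter_subset_left, inter_subset_right⟩
  obtain ⟨Z₁, h₁⟩ := (QuasiSeparatedSpace.inter_isCompact U V hUo hUc hVo hVc).elim_directed_family_closed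
    (fun Z : {Z : Set X // IsClopen Z ∧ x ∈ Z} => (Z : Set X)) (fun Z => Z.2.1.1) (by
      ext z
      simp only [mem_inter_iff, mem_empty_iff_false, iff_false, not_and]
      intro hz hzS
      rcases hSBC hzS with hzB | hzC
      · exact hVU hz.2 ⟨hzS, hzB⟩
      · exact hUC hz.1 ⟨hzS, hzC⟩) hdir
  obtain ⟨Z₂, h₂⟩ := (hUo.union hVo).isClosed_compl.isCompact.elim_directed_family_closed
    (fun Z : {Z : Set X // IsClopen Z ∧ x ∈ Z} => (Z : Set X)) (fun Z => Z.2.1.1) (by
      ext z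
      simp only [mem_inter_iff, mem_compl_iff, mem_union, mem_empty_iff_false, iff_false, not_and]
      intro hz hzS
      rcases hSBC hzS with hzB | hzC
      · exact hz (Or.inl (hBU ⟨hzS, hzB⟩))
      · exact hz (Or.inr (hCV ⟨hzS, hzC⟩))) hdir
  set Z : Set X := Z₁.1 ∩ Z₂.1
  have hZ : IsClopen Z := Z₁.2.1.inter Z₂.2.1
  have hdisj : ∀ z ∈ Z, z ∈ U → z ∉ V := fun z hz hu hv =>
    (eq_empty_iff_forall_notMem.1 h₁ z) ⟨⟨hu, hv⟩, hz.1⟩
  have hcov : ∀ z ∈ Z, z ∈ U ∨ z ∈ V := fun z hz => by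
    by_contra hc
    exact (eq_empty_iff_forall_notMem.1 h₂ z) ⟨hc, hz.2⟩
  have hclop : ∀ U V : Set X, IsOpen U → IsOpen V → (∀ z ∈ Z, z ∈ U → z ∉ V) → (∀ z ∈ Z, z ∈ U ∨ z ∈ V) →
      IsClopen (Z ∩ U) := fun U V hU hV hd hc => by
    refine ⟨?_, hZ.2.inter hU⟩
    have : Z ∩ U = Z ∩ Vᶜ := by
      ext z
      exact ⟨fun hz => ⟨hz.1, hd z hz.1 hz.2⟩, fun hz => ⟨hz.1, (hc z hz.1).resolve_right hz.2⟩⟩
    rw [this]
    exact hZ.1.inter hV.isClosed_compl
  rcases hcov x ⟨Z₁.2.2, Z₂.2.2⟩ with hxU | hxV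
  · obtain ⟨z, hzS, hzC⟩ := hCne
    exact hUC (mem_iInter.1 hzS ⟨Z ∩ U, hclop U V hUo hVo hdisj hcov, ⟨Z₁.2.2, Z₂.2.2⟩, hxU⟩).2 ⟨hzS, hzC⟩
  · obtain ⟨z, hzS, hzB⟩ := hBne
    exact hVU (mem_iInter.1 hzS ⟨Z ∩ V, hclop V U hVo hUo (fun z hz hv hu => hdisj z hz hu hv)
      (fun z hz => (hcov z hz).symm), ⟨Z₁.2.2, Z₂.2.2⟩, hxV⟩).2 ⟨hzS, hzB⟩

instance t2Space_connectedComponents [CompactSpace X] [QuasiSeparatedSpace X] [PrespectralSpace X] :
    T2Space (ConnectedComponents X) := by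
  refine ⟨fun a b hab => ?_⟩
  obtain ⟨x, rfl⟩ := ConnectedComponents.surjective_coe a
  obtain ⟨y, rfl⟩ := ConnectedComponents.surjective_coe b
  obtain ⟨Z, hZ, hxZ, hyZ⟩ : ∃ Z : Set X, IsClopen Z ∧ x ∈ Z ∧ y ∉ Z := by
    by_contra hc
    push_neg at hc
    exact hab (ConnectedComponents.coe_eq_coe'.2 (mem_connectedComponent_of_forall_isClopen hc)).symm
  have hpre : ∀ W : Set X, IsClopen W →
      ConnectedComponents.mk ⁻¹' (ConnectedComponents.mk '' W) = W := fun W hW => by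
    rw [connectedComponents_preimage_image, hW.biUnion_connectedComponent_eq]
  refine ⟨ConnectedComponents.mk '' Z, ConnectedComponents.mk '' Zᶜ, ?_, ?_, mem_image_of_mem _ hxZ,
    mem_image_of_mem _ hyZ, ?_⟩
  · rw [← ConnectedComponents.isQuotientMap_coe.isOpen_preimage, hpre Z hZ]
    exact hZ.2
  · rw [← ConnectedComponents.isQuotientMap_coe.isOpen_preimage, hpre Zᶜ hZ.compl]
    exact hZ.compl.2
  · rw [disjoint_left]
    rintro _ ⟨p, hp, rfl⟩ hq
    have : p ∈ ConnectedComponents.mk ⁻¹' (ConnectedComponents.mk '' Zᶜ) := hq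
    rw [hpre Zᶜ hZ.compl] at this
    exact this hp

variable {T : Type v} [TopologicalSpace T] [CompactSpace T] [T2Space T] [TotallyDisconnectedSpace T]

theorem boxBasis [PrespectralSpace X] :
    IsTopologicalBasis (Set.range fun p : {U : Set X // IsOpen U ∧ IsCompact U} × {W : Set T // IsClopen W} =>
      p.1.1 ×ˢ p.2.1) := by
  refine isTopologicalBasis_of_isOpen_of_nhds ?_ fun z O hz hO => ?_
  · rintro _ ⟨p, rfl⟩
    exact p.1.2.1.prod p.2.2.2
  · obtain ⟨A, B, hA, hB, hzA, hzB, hAB⟩ := isOpen_prod_iff.1 hO z.1 z.2 hz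
    obtain ⟨U, hU, hzU, hUA⟩ := PrespectralSpace.isTopologicalBasis.exists_subset_of_mem_open hzA hA
    obtain ⟨W, hW, hzW, hWB⟩ := (compact_exists_isClopen_in_isOpen hB hzB)
    exact ⟨_, ⟨(⟨U, hU⟩, ⟨W, hW⟩), rfl⟩, ⟨hzU, hzW⟩, (Set.prod_mono hUA hWB).trans hAB⟩

instance prespectral_prod [PrespectralSpace X] : PrespectralSpace (X × T) :=
  .of_isTopologicalBasis boxBasis (by
    rintro _ ⟨p, rfl⟩
    exact p.1.2.2.prod p.2.2.1.isCompact)

instance quasiSeparated_prod [PrespectralSpace X] [QuasiSeparatedSpace X] : QuasiSeparatedSpace (X × T) :=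
  .of_isTopologicalBasis boxBasis fun p q => by
    rw [Set.prod_inter_prod]
    exact (QuasiSeparatedSpace.inter_isCompact _ _ p.1.2.1 p.1.2.2 q.1.2.1 q.1.2.2).prod
      (p.2.2.inter q.2.2).1.isCompact

omit [CompactSpace T] [TotallyDisconnectedSpace T] in
instance quasiSober_prod [QuasiSober X] : QuasiSober (X × T) where
  sober {S} hS hSc := by
    obtain ⟨⟨x₀, t⟩, hxt⟩ := hS.nonempty
    have hsnd : ∀ p ∈ S, p.2 = t := by
      intro p hp
      by_contra hne
      obtain ⟨U, V, hU, hV, hpU, htV, hUV⟩ := t2_separation hne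
      obtain ⟨q, -, hq1, hq2⟩ := hS.2 (Prod.snd ⁻¹' U) (Prod.snd ⁻¹' V) (hU.preimage continuous_snd)
        (hV.preimage continuous_snd) ⟨p, hp, hpU⟩ ⟨(x₀, t), hxt, htV⟩
      exact disjoint_left.1 hUV hq1 hq2
    let S' : Set X := (fun x => (x, t)) ⁻¹' S
    have himg : Prod.fst '' S = S' := by
      ext x
      constructor
      · rintro ⟨⟨a, b⟩, hp, rfl⟩
        have := hsnd _ hp
        simp only at this
        subst this
        exact hp
      · exact fun hx => ⟨(x, t), hx, rfl⟩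
    have hS' : IsClosed S' := hSc.preimage (Continuous.prodMk_left t)
    obtain ⟨η, hη⟩ := QuasiSober.sober (himg ▸ hS.image _ continuous_fst.continuousOn) hS'
    refine ⟨(η, t), ?_⟩
    rw [isGenericPoint_iff_specializes]
    intro p
    constructor
    · intro hp
      exact hp.mem_closed hSc hη.mem
    · intro hp
      have h2 := hsnd p hp
      obtain ⟨a, b⟩ := p
      simp only at h2
      subst h2
      exact (hη.specializes (show a ∈ S' from hp)).prod le_rfl

instance spectral_prod [SpectralSpace X] : SpectralSpace (X × T) where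

omit [CompactSpace T] [T2Space T] [TotallyDisconnectedSpace T] in
/-- A closed subspace of a spectral space is spectral. -/
theorem spectralSpace_of_isClosedEmbedding {Y : Type v} [TopologicalSpace Y] [SpectralSpace X]
    {f : Y → X} (hf : IsClosedEmbedding f) : SpectralSpace Y := by
  haveI := hf.compactSpace
  haveI := hf.isEmbedding.t0Space
  haveI := hf.quasiSober
  haveI := PrespectralSpace.of_isClosedEmbedding f hf
  haveI : QuasiSeparatedSpace Y := by
    refine .of_isTopologicalBasis (b := fun U : {U : Set X // IsOpen U ∧ IsCompact U} => f ⁻¹' U.1) ?_ fun U V => ?_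
    · have := (PrespectralSpace.isTopologicalBasis (X := X)).isInducing hf.isInducing
      convert this using 1
      ext W
      exact ⟨fun ⟨U, h⟩ => ⟨U.1, U.2, h⟩, fun ⟨U, hU, h⟩ => ⟨⟨U, hU⟩, h⟩⟩
    · rw [← preimage_inter]
      exact hf.isCompact_preimage (QuasiSeparatedSpace.inter_isCompact _ _ U.2.1 U.2.2 V.2.1 V.2.2)
  exact { }

end SpecProdLib
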